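import Cfsg.Agent.Helper28.CosetBig
import Cfsg.Agent.Helper28.M11B.Main
import Cfsg.Agent.Helper28.CosetChain
set_option autoImplicit false
set_option maxRecDepth 1000000
namespace Cfsg.Agent.Helper28.M11C
open Cfsg.Agent.Helper28 Cfsg.Agent.Helper28.M11B
def oleaf1_0 : Nat := 0x70000008000000002000000500000000601000030000000070100008000000002010000500000000101000000000000060000003000000005010000200000000400000010000000030100006000000000000000000000
def orbTr1 : Tr := (.leaf oleaf1_0)
/-- the orbit records of level 1 -/
noncomputable def orb1 : Nat → Nat := fun i => orbTr1.look 10 1023 64 18446744073709551615 i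
def wsTr1 : WTr := (.node (.leaf [0]) (.leaf [2]))
/-- the words of level 1 -/
noncomputable def ws1 : Nat → List Nat := wsTr1.get
end Cfsg.Agent.Helper28.M11C
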