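import Cfsg.Agent.Helper28.CosetBig
import Cfsg.Agent.Helper28.M11B.Main
import Cfsg.Agent.Helper28.CosetChain
set_option autoImplicit false
set_option maxRecDepth 1000000
namespace Cfsg.Agent.Helper28.M11C
open Cfsg.Agent.Helper28 Cfsg.Agent.Helper28.M11B
def oleaf2_0 : Nat := 0x20000008000010004010000600001000101000010000100020100008000010003010000300001000500000090000100030000003000010002010000200001000100000010000100000000000000010000000000000000
def orbTr2 : Tr := (.leaf oleaf2_0)
/-- the orbit records of level 2 -/
noncomputable def orb2 : Nat → Nat := fun i => orbTr2.look 10 1023 64 18446744073709551615 i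
def wsTr2 : WTr := (.node (.leaf [0]) (.leaf [3, 0, 2, 0, 2, 0, 3, 0, 2]))
/-- the words of level 2 -/
noncomputable def ws2 : Nat → List Nat := wsTr2.get
end Cfsg.Agent.Helper28.M11C
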