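import Cfsg.Agent.Helper28.CosetBig
import Cfsg.Agent.Helper28.M11B.Main
import Cfsg.Agent.Helper28.CosetChain
set_option autoImplicit false
set_option maxRecDepth 1000000
namespace Cfsg.Agent.Helper28.M11C
open Cfsg.Agent.Helper28 Cfsg.Agent.Helper28.M11B
def oleaf3_0 : Nat := 0x10100003000030002000000a000030002010000a0000300020000006000030001000000300003000400000020000300020100006000030000000000000003000301000040000300000000000000010000000000000000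
def orbTr3 : Tr := (.leaf oleaf3_0)
/-- the orbit records of level 3 -/
noncomputable def orb3 : Nat → Nat := fun i => orbTr3.look 10 1023 64 18446744073709551615 i
def wsTr3 : WTr := (.node (.leaf [3, 1, 2, 1, 3, 1, 3, 1, 2, 1, 1, 3, 1, 2, 1, 3, 1, 3, 1, 2, 0, 3, 0, 2, 0, 2, 0, 3, 0, 2, 1, 3, 1, 2, 1, 3, 1, 3, 1, 2]) (.leaf [3, 0, 2, 0, 2, 0, 3, 0, 2, 0, 3, 1, 2, 1, 3, 1, 3, 1, 2, 1, 3, 0, 2, 0, 2, 0, 3, 0, 0, 2, 0, 2, 0, 3, 0, 0, 2, 0, 2, 0, 3, 0, 0, 2, 0, 2, 0, 3, 0, 2, 0, 3, 1, 2, 1, 3, 1, 3, 1, 2, 0, 3, 1, 2, 1, 3, 1, 3, 1, 1, 2, 1, 3, 1, 3, 1, 2, 1, 3, 0, 2, 0, 2, 0, 3, 0, 2]))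
/-- the words of level 3 -/
noncomputable def ws3 : Nat → List Nat := wsTr3.get
end Cfsg.Agent.Helper28.M11C
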