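import Cfsg.Agent.Helper28.CosetBig
import Cfsg.Agent.Helper28.M11B.Main
import Cfsg.Agent.Helper28.CosetChain
set_option autoImplicit false
set_option maxRecDepth 1000000
namespace Cfsg.Agent.Helper28.M11C
open Cfsg.Agent.Helper28 Cfsg.Agent.Helper28.M11B
def oleaf4_0 : Nat := 0x1010000900009000000000000000900020100005000090002020000a000090001000000900009000102000090000900020100006000090000000000000003000202000060000900000000000000010000000000000000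
def orbTr4 : Tr := (.leaf oleaf4_0)
/-- the orbit records of level 4 -/
noncomputable def orb4 : Nat → Nat := fun i => orbTr4.look 10 1023 64 18446744073709551615 i
def wsTr4 : WTr := (.node (.node (.leaf [3, 1, 2, 1, 3, 1, 3, 1, 2, 0, 0, 3, 0, 2, 0, 2, 0, 3, 0, 2, 1, 3, 0, 2, 0, 2, 0, 3, 0, 2, 0, 3, 1, 2, 1, 3, 1, 3, 1, 1, 2, 1, 3, 1, 3, 1, 2, 0, 0, 0, 3, 1, 2, 1, 3, 1, 3, 1, 2, 1, 3, 0, 2, 0, 2, 0, 3, 0, 2, 0, 3, 1, 2, 1, 3, 1, 3, 1, 2, 1, 3, 0, 2, 0, 2, 0, 3, 0, 2, 0, 0, 0, 3, 0, 2, 0, 2, 0, 3, 0, 0, 2, 0, 2, 0, 3, 0, 2, 1, 3, 0, 2, 0, 2, 0, 3, 0, 2, 1, 3, 1, 2, 1, 3, 1, 3, 1, 1, 2, 1, 3, 1, 3, 1, 1, 2, 1, 3, 1, 3, 1, 1, 2, 1, 3, 1, 3, 1, 2, 0, 3, 0, 2, 0, 2, 0, 3, 0, 2, 1, 3, 1, 2, 1, 3, 1, 3, 1, 2]) (.leaf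 [1, 3, 1, 2, 1, 3, 1, 3, 1, 2, 0, 0, 3, 1, 2, 1, 3, 1, 3, 1, 1, 2, 1, 3, 1, 3, 1, 2, 0, 0, 3, 1, 2, 1, 3, 1, 3, 1, 1, 2, 1, 3, 1, 3, 1, 1, 2, 1, 3, 1, 3, 1, 1, 2, 1, 3, 1, 3, 1, 2, 0, 3, 0, 2, 0, 2, 0, 3, 0, 2, 1, 3, 1, 2, 1, 3, 1, 3, 1, 2, 1, 3, 1, 2, 1, 3, 1, 3, 1, 2, 0, 3, 0, 2, 0, 2, 0, 3, 0, 0, 2, 0, 2, 0, 3, 0, 2, 1, 3, 0, 2, 0, 2, 0, 3, 0, 2, 1, 3, 1, 2, 1, 3, 1, 3, 1, 1, 2, 1, 3, 1, 3, 1, 1, 2, 1, 3, 1, 3, 1, 2, 0, 0, 3, 0, 2, 0, 2, 0, 3, 0, 2])) (.leaf [3, 0, 2, 0, 2, 0, 3, 0, 2, 1, 3, 1, 2, 1, 3, 1, 3, 1, 2, 0, 3, 1, 2, 1, 3, 1, 3, 1, 1, 2, 1, 3, 1, 3, 1, 2, 1, 3, 0, 2, 0, 2, 0, 3, 0, 0, 2, 0, 2, 0, 3, 0, 2, 0, 3, 1, 2, 1, 3, 1, 3, 1, 1, 2, 1, 3, 1, 3, 1, 2, 1, 3, 0, 2, 0, 2, 0, 3, 0, 2, 0, 3, 1, 2,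 1, 3, 1, 3, 1, 2, 1, 3, 0, 2, 0, 2, 0, 3, 0, 2, 0, 0, 0, 3, 0, 2, 0, 2, 0, 3, 0, 0, 2, 0, 2, 0, 3, 0, 2, 1, 3, 0, 2, 0, 2, 0, 3, 0, 2, 1, 3, 1, 2, 1, 3, 1, 3, 1, 1, 2, 1, 3, 1, 3, 1, 1, 2, 1, 3, 1, 3, 1, 1, 2, 1, 3, 1, 3, 1, 2, 0, 3, 0, 2, 0, 2, 0, 3, 0, 2, 1, 3, 1, 2, 1, 3, 1, 3, 1, 2]))
/-- the words of level 4 -/
noncomputable def ws4 : Nat → List Nat := wsTr4.get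
end Cfsg.Agent.Helper28.M11C
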