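import Cfsg.Agent.Helper28.M11Sub
import Cfsg.Agent.Helper28.M11A.Main
import Cfsg.Agent.Helper28.M11K.Main
set_option autoImplicit false
set_option linter.constructorNameAsVariable false
namespace Cfsg.Agent.Helper28.M11C
open Cfsg.Agent.Helper28 Cfsg.Spor

theorem hY0 : M11A.Y = Set.range (fun z => FreeGroup.of (M11KD.iota z)) := by
  ext y
  constructor
  · intro (h : y ∈ M11A.Ylist)
    simp only [M11A.Ylist, List.mem_cons, List.not_mem_nil, or_false] at h
    rcases h with rfl
    exact ⟨.b, rfl⟩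
  · rintro ⟨z, rfl⟩
    show _ ∈ M11A.Ylist
    cases z <;> simp [M11A.Ylist, M11KD.iota]

theorem hY1 : M11K.Y = ∅ := by
  ext y; simp [M11K.Ylist]

theorem upper1 : Finite (PresentedGroup M11K.R) ∧ Nat.card (PresentedGroup M11K.R) = 4 :=
  card_of_index_bot M11K.R M11K.Y hY1 4 (by omega) M11K.main_index

theorem upper0 : Finite (PresentedGroup M11A.R) ∧
    Nat.card (PresentedGroup M11A.R) ≤ 1980 * 4 := by
  obtain ⟨h1, h2, -⟩ := card_le_of_link M11KD.iota M11K.R M11A.R M11KD.hrels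
    M11A.Y hY0 1980 (4) (by omega) M11A.main_index upper1.1 (le_of_eq upper1.2)
  exact ⟨h1, h2⟩

theorem upper : Finite (PresentedGroup M11A.R) ∧ Nat.card (PresentedGroup M11A.R) ≤ 7920 :=
  ⟨upper0.1, le_trans upper0.2 (by norm_num)⟩

end Cfsg.Agent.Helper28.M11C
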